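import Cfsg.Agent.H75.Cyc.Lie
import Cfsg.Agent.H160.NC.Cop

/-!
# S3441: the primes dividing `|X|`, not `|S|` (helper75)
-/

set_option autoImplicit false

namespace Cfsg.Agent.H75.Cyc

open Cfsg Cfsg.Agent.H160.NC Cfsg.Agent.H376.Cyc

universe u v

/-- coprime automorphisms fix an involution -/
theorem two_out {X : Type u} [Group X] [Finite X] (S : Subgroup X) [S.Normal] (hinv : CopInv ↥S) {s : ℕ}
    (hs : s.Prime) (hs2 : s ≠ 2) (hS : ¬ s ∣ Nat.card ↥S) (hX : s ∣ Nat.card X) : ∃ x : X, orderOf x = 2 * s := by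
  have : Fact s.Prime := ⟨hs⟩
  obtain ⟨x, hx⟩ := exists_prime_orderOf_dvd_card' s hX
  obtain ⟨g, hg, hxg⟩ := hinv s hs hs2 hS (MulAut.conjNormal x)
    (by rw [← map_pow, ← hx, pow_orderOf_eq_one, map_one])
  have h5 : x * g * x⁻¹ = g := by
    have := congrArg Subtype.val hxg
    rwa [MulAut.conjNormal_apply] at this
  have h6 : Commute (g : X) x := (mul_inv_eq_iff_eq_mul.1 h5).symm
  refine ⟨g * x, ?_⟩
  have h7 : orderOf (g : X) = 2 := by rw [Subgroup.orderOf_coe, hg]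
  rw [h6.orderOf_mul_eq_mul_orderOf_of_coprime
    (by rw [h7, hx]; exact (Nat.coprime_primes Nat.prime_two hs).2 hs2.symm), h7, hx]

/-- groups of Lie type -/
theorem two_out_of_lie {X : Type u} [Group X] [Finite X] (S : Subgroup X) [S.Normal] {p : ℕ} {T : Type v} [Group T]
    (hT : IsSimpleGroup T) (h : IsLieTypeChar p T) (e : ↥S ≃* T) {s : ℕ}
    (hs : s.Prime) (hs2 : s ≠ 2) (hS : ¬ s ∣ Nat.card ↥S) (hX : s ∣ Nat.card X) : ∃ x : X, orderOf x = 2 * s := by
  have : Finite T := Finite.of_equiv _ e.toEquiv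
  exact two_out S (All.copInv_congr e.symm (copInv_of_lie (All.prime_of_lie h) h)) hs hs2 hS hX

end Cfsg.Agent.H75.Cyc
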